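import Mathlib

/-!
# A stably free invertible module is free
-/

set_option autoImplicit false
set_option linter.style.haveILetI false
set_option backward.isDefEq.respectTransparency false

universe u

open TensorProduct

noncomputable section

namespace Groth.Agent.PicValLib

variable {S : Type u} [CommRing S]

/-- An invertible module which becomes free of rank `m + 1` after adding `S ^ m` is free. -/
theorem free_of_invertible_prod_equiv (L : Type u) [AddCommGroup L] [Module S L] [Module.Invertible S L] {m : ℕ}
    (ψ : (L × (Fin m → S)) ≃ₗ[S] (Fin (m + 1) → S)) : Module.Free S L := by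
  classical
  -- the determinant with the last columns fixed
  let M : L → Matrix (Fin (m + 1)) (Fin (m + 1)) S := fun x =>
    Matrix.of fun i j => Fin.cases (ψ (x, 0) i) (fun l => ψ (0, Pi.single l 1) i) j
  have hcol : ∀ (x : L) (j : Fin (m + 1)), (fun i => M x i j) =
      Fin.cases (ψ (x, 0)) (fun l => ψ (0, Pi.single l 1)) j := fun x j => by
    funext i
    refine Fin.cases ?_ (fun l => ?_) j <;> simp [M]
  have hupd : ∀ x v, (M 0).updateCol 0 v = M x ↔ v = ψ (x, 0) := fun x v => by
    constructor
    · intro h
      funext i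
      have := congrFun (congrFun h i) 0
      simpa [M] using this
    · rintro rfl
      ext i j
      refine Fin.cases ?_ (fun l => ?_) j
      · simp [M]
      · simp [M, Matrix.updateCol_ne (Fin.succ_ne_zero l)]
  let ℓ : L →ₗ[S] S :=
    { toFun := fun x => (M x).det
      map_add' := fun x y => by
        rw [← (hupd (x + y) _).mpr rfl, ← (hupd x _).mpr rfl, ← (hupd y _).mpr rfl, ← Matrix.det_updateCol_add,
          show ((x + y, 0) : L × (Fin m → S)) = (x, 0) + (y, 0) by simp, map_add]
      map_smul' := fun c x => by
        rw [← (hupd (c • x) _).mpr rfl, ← (hupd x _).mpr rfl, RingHom.id_apply, smul_eq_mul,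
          ← Matrix.det_updateCol_smul, show ((c • x, 0) : L × (Fin m → S)) = c • (x, 0) by simp, map_smul] }
  have hsurj : Function.Surjective ℓ := by
    rw [← LinearMap.range_eq_top]
    by_contra hne
    obtain ⟨P, hP, hle⟩ := Ideal.exists_le_maximal _ hne
    haveI := hP
    letI : Field (S ⧸ P) := Ideal.Quotient.field P
    -- a generator of the fibre
    let mk := LocalizedModule.mkLinearMap P.primeCompl L
    haveI : Module.Invertible (Localization P.primeCompl) (LocalizedModule P.primeCompl L) := inferInstance
    haveI : Module.Free (Localization.AtPrime P) (LocalizedModule P.primeCompl L) := Module.free_of_flat_of_isLocalRing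
    obtain ⟨e⟩ := (Module.Invertible.free_iff_linearEquiv (R := Localization.AtPrime P)).mp ‹_›
    obtain ⟨⟨g, s₀⟩, hg⟩ := IsLocalizedModule.surj P.primeCompl mk (e.symm 1)
    have hgen : ∀ x : L, ∃ s ∉ P, ∃ a : S, s • x = a • g := fun x => by
      obtain ⟨⟨a, s⟩, has⟩ := IsLocalization.surj P.primeCompl (e (mk x))
      have h1 : (s : S) • mk x = a • e.symm 1 := by
        apply e.injective
        rw [← algebraMap_smul (Localization.AtPrime P) (s : S), ← algebraMap_smul (Localization.AtPrime P) a, map_smul,
          map_smul, e.apply_symm_apply, smul_eq_mul, smul_eq_mul, mul_one, mul_comm]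
        exact has
      have h2 : mk ((s₀ : S) • (s : S) • x) = mk (a • g) := by
        rw [map_smul, map_smul, map_smul, h1, smul_comm, ← hg, Submonoid.smul_def]
      obtain ⟨c, hc⟩ := IsLocalizedModule.exists_of_eq (S := P.primeCompl) h2
      refine ⟨c * (s₀ * s), (c * (s₀ * s)).2, c * a, ?_⟩
      rw [Submonoid.smul_def, Submonoid.smul_def, smul_smul, smul_smul, smul_smul] at hc
      rw [← mul_assoc]
      exact hc
    let π := Ideal.Quotient.mk P
    have hmv : Function.Surjective ((M g).map π).mulVec := by
      intro w
      choose w' hw' using fun i => Ideal.Quotient.mk_surjective (I := P) (w i)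
      obtain ⟨⟨x, v⟩, hxv⟩ := ψ.surjective w'
      obtain ⟨s, hs, a, has⟩ := hgen x
      have hs0 : π s ≠ 0 := fun h0 => hs (Ideal.Quotient.eq_zero_iff_mem.mp h0)
      refine ⟨Fin.cases ((π s)⁻¹ * π a) (fun l => π (v l)), funext fun i => ?_⟩
      have hdec : ψ (x, v) = ψ (x, 0) + ∑ l, v l • ψ (0, Pi.single l 1) := by
        simp only [← map_smul, ← map_sum]
        rw [← map_add]
        congr 1
        simp [Prod.ext_iff, Prod.fst_sum, Prod.snd_sum, ← Pi.single_smul, Finset.univ_sum_single]
      have hx : π (ψ (x, 0) i) = (π s)⁻¹ * π a * π (ψ (g, 0) i) := by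
        have h1 : s • ψ (x, 0) = a • ψ (g, 0) := by
          rw [← map_smul, ← map_smul, Prod.smul_mk, Prod.smul_mk, has, smul_zero, smul_zero]
        have h2 := congrArg π (congrFun h1 i)
        rw [Pi.smul_apply, Pi.smul_apply, smul_eq_mul, smul_eq_mul, map_mul, map_mul] at h2
        rw [mul_assoc, ← h2, ← mul_assoc, inv_mul_cancel₀ hs0, one_mul]
      rw [Matrix.mulVec, dotProduct, Fin.sum_univ_succ]
      simp only [Matrix.map_apply, M, Matrix.of_apply, Fin.cases_zero, Fin.cases_succ]
      rw [← hw' i, ← hxv, hdec, Pi.add_apply, map_add, hx, Finset.sum_apply, map_sum, mul_comm]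
      congr 1
      exact Finset.sum_congr rfl fun l _ => by rw [Pi.smul_apply, smul_eq_mul, map_mul, mul_comm]
    have hdet := (Matrix.isUnit_iff_isUnit_det _).mp (Matrix.mulVec_surjective_iff_isUnit.mp hmv)
    rw [← RingHom.mapMatrix_apply, ← RingHom.map_det] at hdet
    exact hdet.ne_zero (Ideal.Quotient.eq_zero_iff_mem.mpr (hle (LinearMap.mem_range_self ℓ g)))
  exact Module.Free.of_equiv (LinearEquiv.ofBijective ℓ (Module.Invertible.bijective_of_surjective hsurj)).symm

/-- A stably free invertible module is free. -/
theorem free_of_isStablyFree (L : Type u) [AddCommGroup L] [Module S L] [Module.Invertible S L]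
    [Module.IsStablyFree S L] : Module.Free S L := by
  rcases subsingleton_or_nontrivial S with hS | hS
  · haveI := Module.subsingleton S L
    exact Module.Free.of_subsingleton S L
  obtain ⟨N, _, _, _, _, _⟩ := Module.IsStablyFree.exist_free_prod S L
  let m := Module.finrank S N
  let eN : N ≃ₗ[S] (Fin m → S) := (Module.finBasis S N).equivFun
  have hrk : Module.finrank S (L × N) = m + 1 := by
    let k := Module.finrank S (L × N)
    obtain ⟨P, hP⟩ := Ideal.exists_maximal S
    letI : Field (S ⧸ P) := Ideal.Quotient.field P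
    have h1 : Module.finrank (S ⧸ P) ((S ⧸ P) ⊗[S] (L × N)) = k := Module.finrank_baseChange
    have h2 : Module.finrank (S ⧸ P) ((S ⧸ P) ⊗[S] N) = m := Module.finrank_baseChange
    haveI : Module.Free (S ⧸ P) ((S ⧸ P) ⊗[S] L) := Module.Free.of_divisionRing _ _
    have h3 : Module.finrank (S ⧸ P) ((S ⧸ P) ⊗[S] L) = 1 := Module.Invertible.finrank_eq_one _ _
    rw [(TensorProduct.prodRight S (S ⧸ P) (S ⧸ P) L N).finrank_eq, Module.finrank_prod, h2, h3] at h1
    omega
  exact free_of_invertible_prod_equiv L
    ((((LinearEquiv.refl S L).prodCongr eN.symm)).trans (Module.finBasisOfFinrankEq S (L × N) hrk).equivFun)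

end Groth.Agent.PicValLib
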