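import Groth.Agent.FlatValPD.Setup
import Groth.Agent.PicValLib.Det
import Mathlib.RingTheory.Localization.BaseChange

/-!
# Picard group of the generic fibre over a valuation ring
-/

set_option autoImplicit false
set_option linter.style.haveILetI false
set_option linter.unusedSectionVars false
set_option maxHeartbeats 1000000
set_option backward.isDefEq.respectTransparency false

universe u

open CategoryTheory IsLocalRing TensorProduct Groth.Agent.FlatValPD

noncomputable section

namespace Groth.Agent.PicValLib

variable (W : Type u) {A : Type u} [CommRing W] [IsDomain W] [ValuationRing W] [CommRing A] [IsLocalRing A]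
  [Algebra W A] [IsLocalHom (algebraMap W A)] [Algebra.EssFiniteType W A] [Module.Flat W A]

/-- Finite projective dimension gives stable freeness after flat base change. -/
theorem isStablyFree_baseChange (S : Type u) [CommRing S] [Algebra A S] [Module.Flat A S] :
    ∀ (n : ℕ) (M : Type u) [AddCommGroup M] [Module A M] [Module W M] [IsScalarTower W A M] [Module.Finite A M]
      [Module.Flat W M],
      HasProjectiveDimensionLT (ModuleCat.of A M) (n + 1) → Module.Projective S (S ⊗[A] M) →
      Module.IsStablyFree S (S ⊗[A] M) := by
  intro n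
  induction n with
  | zero =>
    intro M _ _ _ _ _ _ h _
    haveI : Projective (ModuleCat.of A M) := (projective_iff_hasProjectiveDimensionLE_zero _).mpr h
    haveI : Module.Projective A M := (IsProjective.iff_projective M).mpr inferInstance
    haveI : Module.FinitePresentation A M := Module.finitePresentation_of_projective A M
    haveI := Module.free_of_flat_of_isLocalRing (R := A) (P := M)
    infer_instance
  | succ n ih =>
    intro M _ _ _ _ _ _ h hproj
    obtain ⟨m, f, hf, hfin⟩ := exists_presentation (finitePresentation_of_flat W (A := A) (N := M))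
    haveI := flat_ker W f
    have hS := shortExact_ker f hf
    have hK : HasProjectiveDimensionLT (ModuleCat.of A (LinearMap.ker f)) (n + 1) :=
      (hS.hasProjectiveDimensionLT_X₃_iff n ((IsProjective.iff_projective _).mp Module.Projective.of_free)).mp h
    let i' := (LinearMap.ker f).subtype.baseChange S
    let f' := f.baseChange S
    have hi' : Function.Injective i' :=
      Module.Flat.lTensor_preserves_injective_linearMap _ (LinearMap.ker f).injective_subtype
    have hex : Function.Exact i' f' := lTensor_exact S (LinearMap.exact_subtype_ker_map f) hf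
    have hf' : Function.Surjective f' := LinearMap.lTensor_surjective S hf
    obtain ⟨l, hl⟩ := Module.projective_lifting_property f' LinearMap.id hf'
    obtain ⟨e, -⟩ := hex.splitSurjectiveEquiv hi' ⟨l, hl⟩
    haveI hKp : Module.Projective S (S ⊗[A] LinearMap.ker f) :=
      Module.Projective.of_split (e.symm.toLinearMap ∘ₗ LinearMap.inl S _ _) (LinearMap.fst S _ _ ∘ₗ e.toLinearMap)
        (LinearMap.ext fun x => by simp)
    haveI := ih (LinearMap.ker f) hK hKp
    obtain ⟨N, _, _, _, _, _⟩ := Module.IsStablyFree.exist_free_prod S (S ⊗[A] LinearMap.ker f)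
    haveI : Module.Free S (((S ⊗[A] LinearMap.ker f) × N) × (S ⊗[A] M)) :=
      Module.Free.of_equiv (((e.prodCongr (LinearEquiv.refl S N)).trans
        (LinearEquiv.prodAssoc S _ _ _)).trans (((LinearEquiv.refl S _).prodCongr (LinearEquiv.prodComm S _ _)).trans
          (LinearEquiv.prodAssoc S _ _ _).symm))
    exact Module.IsStablyFree.of_free_prod' S (S ⊗[A] M) ((S ⊗[A] LinearMap.ker f) × N)

/-- Invertible modules over the generic fibre are free. -/
theorem free_of_invertible (n : ℕ) [IsRegularLocalRing (A ⧸ fibIdeal W A)] (hn : ringKrullDim (A ⧸ fibIdeal W A) = n)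
    (S : Type u) [CommRing S] [Algebra A S] [IsLocalization (Algebra.algebraMapSubmonoid A (nonZeroDivisors W)) S]
    (L : Type u) [AddCommGroup L] [Module S L] [Module.Invertible S L] : Module.Free S L := by
  classical
  let T := Algebra.algebraMapSubmonoid A (nonZeroDivisors W)
  haveI : Module.Flat A S := IsLocalization.flat S T
  letI : Module A L := Module.compHom L (algebraMap A S)
  haveI : IsScalarTower A S L := .of_algebraMap_smul fun _ _ => rfl
  letI : Module W L := Module.compHom L (algebraMap W A)
  haveI : IsScalarTower W A L := .of_algebraMap_smul fun _ _ => rfl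
  obtain ⟨r, g, hg⟩ := Submodule.fg_iff_exists_fin_generating_family.mp (Module.Finite.fg_top (R := S) (M := L))
  let M : Submodule A L := Submodule.span A (Set.range g)
  haveI : Module.Finite A M := Module.Finite.iff_fg.mpr (Submodule.fg_span (Set.finite_range g))
  have hunit : ∀ t ∈ T, IsUnit (algebraMap A (Module.End A L) t) := fun t ht => by
    rw [Module.End.isUnit_iff]
    obtain ⟨c, hc⟩ := IsLocalization.map_units S (⟨t, ht⟩ : T)
    show Function.Bijective fun x : L => t • x
    rw [show (fun x : L => t • x) = fun x => (c : S) • x from funext fun x => by rw [hc, algebraMap_smul]]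
    exact MulAction.bijective c
  haveI : Module.Flat W M := by
    rw [Module.Flat.flat_iff_torsion_eq_bot_of_isBezout, eq_bot_iff]
    rintro x ⟨⟨w, hw⟩, hwx⟩
    refine (Submodule.mem_bot W).mpr (Subtype.ext (((Module.End.isUnit_iff _).mp (hunit _ ⟨w, hw, rfl⟩)).1 ?_))
    show algebraMap W A w • (x : L) = algebraMap W A w • (0 : L)
    rw [smul_zero, algebraMap_smul]
    exact congrArg Subtype.val hwx
  haveI hloc : IsLocalizedModule T M.subtype := by
    refine ⟨fun t => hunit t.1 t.2, fun y => ?_, fun {x₁ x₂} h => ⟨1, by rw [Subtype.val_injective h]⟩⟩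
    have hy : y ∈ Submodule.span S (Set.range g) := hg ▸ Submodule.mem_top
    induction hy using Submodule.span_induction with
    | mem y hy => exact ⟨⟨⟨y, Submodule.subset_span hy⟩, 1⟩, one_smul _ y⟩
    | zero => exact ⟨⟨0, 1⟩, by simp⟩
    | add y z _ _ hy hz =>
      obtain ⟨⟨a, s⟩, ha⟩ := hy
      obtain ⟨⟨b, t⟩, hb⟩ := hz
      refine ⟨⟨t • a + s • b, s * t⟩, ?_⟩
      simp only [smul_add, Submonoid.smul_def, map_add, LinearMap.map_smul, Submodule.subtype_apply] at *
      rw [← ha, ← hb, Submonoid.coe_mul, mul_smul, mul_smul, smul_comm (s : A) (t : A)]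
    | smul c y _ hy =>
      obtain ⟨⟨a, s⟩, ha⟩ := hy
      obtain ⟨⟨b, t⟩, hb⟩ := IsLocalization.surj T c
      refine ⟨⟨b • a, t * s⟩, ?_⟩
      simp only [Submonoid.smul_def, LinearMap.map_smul, Submodule.subtype_apply] at *
      rw [Submonoid.coe_mul, mul_smul, smul_comm (s : A) c y, ha, ← algebraMap_smul S (t : A), smul_smul,
        mul_comm, hb, algebraMap_smul]
  let e : S ⊗[A] M ≃ₗ[S] L := (IsLocalizedModule.isBaseChange T S M.subtype).equiv
  have hpd : HasProjectiveDimensionLT (ModuleCat.of A M) (n + 1) :=
    hasProjectiveDimensionLT_of_fibre W n M (RegLocal.hasProjectiveDimensionLT (A ⧸ fibIdeal W A) n hn _)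
  haveI : Module.Projective S (S ⊗[A] M) := Module.Projective.of_equiv e.symm
  haveI := isStablyFree_baseChange W S n M hpd inferInstance
  haveI : Module.IsStablyFree S L := Module.IsStablyFree.equiv e
  exact free_of_isStablyFree L

end Groth.Agent.PicValLib
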